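import Mathlib.CategoryTheory.Triangulated.TStructure.Heart
import Mathlib.CategoryTheory.Triangulated.TStructure.AbelianSubcategory
import Mathlib.CategoryTheory.Triangulated.TStructure.TruncLEGT
import Mathlib.CategoryTheory.Limits.Constructions.FiniteProductsOfBinaryProducts
import Mathlib.CategoryTheory.Preadditive.Biproducts

/-!
The heart of a t-structure is abelian.
-/

set_option autoImplicit false

universe v u v' u'

open CategoryTheory CategoryTheory.Limits CategoryTheory.Pretriangulated CategoryTheory.Triangulated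
open ZeroObject

namespace Groth.Agent.THeart

variable {C : Type u} [Category.{v} C] [Preadditive C] [HasZeroObject C] [HasShift C ℤ]
  [∀ n : ℤ, (shiftFunctor C n).Additive] [Pretriangulated C]
  (t : TStructure C)

theorem exists_heart_iso (H : Type u') [Category.{v'} H] [Preadditive H] [t.Heart H] (Y : C)
    [t.IsLE Y 0] [t.IsGE Y 0] : ∃ X : H, Nonempty (t.ιHeart.obj X ≅ Y) := by
  have h : t.heart Y := (t.mem_heart_iff Y).2 ⟨inferInstance, inferInstance⟩
  rw [← t.essImage_ιHeart H] at h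
  exact ⟨_, ⟨Functor.essImage.getIso h⟩⟩

variable {H : Type u'} [Category.{v'} H] [Preadditive H] [t.Heart H]

theorem hom_shift_eq_zero ⦃X Y : H⦄ ⦃n : ℤ⦄
    (f : t.ιHeart.obj X ⟶ (t.ιHeart.obj Y)⟦n⟧) (hn : n < 0) : f = 0 := by
  have := t.isGE_shift (t.ιHeart.obj Y) 0 n (-n)
  exact t.zero f 0 (-n)

include t in
theorem hasZeroObject_heart : HasZeroObject H := by
  obtain ⟨Z, ⟨e⟩⟩ := exists_heart_iso t H (0 : C)
  refine ⟨Z, ?_⟩
  rw [IsZero.iff_id_eq_zero]
  apply t.ιHeart.map_injective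
  rw [t.ιHeart.map_id, Functor.map_zero]
  exact ((isZero_zero C).of_iso e).eq_of_src _ _

variable [IsTriangulated C]

include t in
theorem hasFiniteProducts_heart : HasFiniteProducts H := by
  have := hasZeroObject_heart t (H := H)
  have : HasBinaryBiproducts H := ⟨fun X Y => by
    have h1 : t.IsLE (t.ιHeart.obj X ⊞ t.ιHeart.obj Y) 0 :=
      t.isLE₂ _ (binaryBiproductTriangle_distinguished _ _) 0 (inferInstanceAs (t.IsLE (t.ιHeart.obj X) 0))
        (inferInstanceAs (t.IsLE (t.ιHeart.obj Y) 0))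
    have h2 : t.IsGE (t.ιHeart.obj X ⊞ t.ιHeart.obj Y) 0 :=
      t.isGE₂ _ (binaryBiproductTriangle_distinguished _ _) 0 (inferInstanceAs (t.IsGE (t.ιHeart.obj X) 0))
        (inferInstanceAs (t.IsGE (t.ιHeart.obj Y) 0))
    obtain ⟨W, ⟨e⟩⟩ := exists_heart_iso t H (t.ιHeart.obj X ⊞ t.ιHeart.obj Y)
    let b : BinaryBicone X Y :=
      { pt := W
        fst := t.ιHeart.preimage (e.hom ≫ biprod.fst)
        snd := t.ιHeart.preimage (e.hom ≫ biprod.snd)
        inl := t.ιHeart.preimage (biprod.inl ≫ e.inv)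
        inr := t.ιHeart.preimage (biprod.inr ≫ e.inv)
        inl_fst := t.ιHeart.map_injective (by simp)
        inl_snd := t.ιHeart.map_injective (by simp)
        inr_fst := t.ιHeart.map_injective (by simp)
        inr_snd := t.ιHeart.map_injective (by simp) }
    refine HasBinaryBiproduct.mk ⟨b, isBinaryBilimitOfTotal b (t.ιHeart.map_injective ?_)⟩
    simp only [b, Functor.map_add, Functor.map_comp, Functor.map_preimage, Functor.map_id,
      Category.assoc]
    rw [← Preadditive.comp_add, ← Category.assoc biprod.fst, ← Category.assoc biprod.snd,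
      ← Preadditive.add_comp, biprod.total]
    simp⟩
  exact hasFiniteProducts_of_has_binary_and_terminal

theorem admissibleMorphism_eq_top :
    AbelianSubcategory.admissibleMorphism (t.ιHeart (H := H)) = ⊤ := by
  ext X₁ X₂ f₁
  simp only [MorphismProperty.top_apply, iff_true]
  intro X₃ f₂ f₃ hT
  have hle : t.IsLE X₃ 0 := t.isLE₂ _ (rot_of_distTriang _ hT) 0
    (inferInstanceAs (t.IsLE (t.ιHeart.obj X₂) 0))
    (show t.IsLE ((t.ιHeart.obj X₁)⟦(1 : ℤ)⟧) 0 by
      have := t.isLE_shift (t.ιHeart.obj X₁) 0 1 (-1)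
      exact t.isLE_of_le _ (-1) 0)
  have hge : t.IsGE X₃ (-1) := t.isGE₂ _ (rot_of_distTriang _ hT) (-1)
    (show t.IsGE (t.ιHeart.obj X₂) (-1) from t.isGE_of_ge _ (-1) 0)
    (show t.IsGE ((t.ιHeart.obj X₁)⟦(1 : ℤ)⟧) (-1) from t.isGE_shift _ 0 1 (-1))
  have h1 : t.IsLE ((t.truncLT 0).obj X₃) (-1) := inferInstanceAs (t.IsLE ((t.truncLT 0).obj X₃) (0 - 1))
  have h2 : t.IsGE ((t.truncLT 0).obj X₃) (-1) := inferInstance
  have h3 := t.isLE_shift ((t.truncLT 0).obj X₃) (-1) (-1) 0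
  have h4 := t.isGE_shift ((t.truncLT 0).obj X₃) (-1) (-1) 0
  obtain ⟨K, ⟨eK⟩⟩ := exists_heart_iso t H (((t.truncLT 0).obj X₃)⟦(-1 : ℤ)⟧)
  obtain ⟨Q, ⟨eQ⟩⟩ := exists_heart_iso t H ((t.truncGE 0).obj X₃)
  let e : (t.ιHeart.obj K)⟦(1 : ℤ)⟧ ≅ (t.truncLT 0).obj X₃ :=
    (shiftFunctor C (1 : ℤ)).mapIso eK ≪≫ (shiftFunctorCompIsoId C (-1 : ℤ) 1 (by simp)).app _
  refine ⟨K, Q, e.hom ≫ (t.truncLTι 0).app X₃, (t.truncGEπ 0).app X₃ ≫ eQ.inv,
    eQ.hom ≫ (t.truncGEδLT 0).app X₃ ≫ e.inv⟦(1 : ℤ)⟧',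
    isomorphic_distinguished _ (t.triangleLTGE_distinguished 0 X₃) _ ?_⟩
  refine Triangle.isoMk _ _ e (Iso.refl _) eQ ?_ ?_ ?_
  · change (e.hom ≫ (t.truncLTι 0).app X₃) ≫ 𝟙 X₃ = e.hom ≫ (t.truncLTι 0).app X₃
    exact Category.comp_id _
  · change ((t.truncGEπ 0).app X₃ ≫ eQ.inv) ≫ eQ.hom = 𝟙 X₃ ≫ (t.truncGEπ 0).app X₃
    rw [Category.assoc, Iso.inv_hom_id, Category.comp_id, Category.id_comp]
  · change (eQ.hom ≫ (t.truncGEδLT 0).app X₃ ≫ e.inv⟦(1 : ℤ)⟧') ≫ e.hom⟦(1 : ℤ)⟧' = eQ.hom ≫ (t.truncGEδLT 0).app X₃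
    rw [Category.assoc, Category.assoc, ← Functor.map_comp, e.inv_hom_id, CategoryTheory.Functor.map_id]; erw [Category.comp_id]

/-- The abelian structure on the heart of a t-structure. -/
noncomputable abbrev abelianHeart : Abelian H :=
  have := hasFiniteProducts_heart t (H := H)
  AbelianSubcategory.abelian (t.ιHeart (H := H)) (hom_shift_eq_zero t) (admissibleMorphism_eq_top t)

end Groth.Agent.THeart
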