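import Groth.Agent.Lib.THeart.Abelian
import Mathlib.CategoryTheory.Triangulated.HomologicalFunctor

/-!
The degree zero cohomology functor of a t-structure is homological.
-/

set_option autoImplicit false

universe v u v' u'

open CategoryTheory CategoryTheory.Limits CategoryTheory.Pretriangulated CategoryTheory.Triangulated

namespace Groth.Agent.THeart

variable {C : Type u} [Category.{v} C] [Preadditive C] [HasZeroObject C] [HasShift C ℤ]
  [∀ n : ℤ, (shiftFunctor C n).Additive] [Pretriangulated C] [IsTriangulated C]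
  {t : TStructure C} {H : Type u'} [Category.{v'} H] [Abelian H] [t.Heart H] {H0 : C ⥤ H}

section

variable (e : H0 ⋙ t.ιHeart ≅ t.truncGE 0 ⋙ t.truncLE 0)

/-- `H0` computed with the truncations in the other order. -/
noncomputable def isoLEGE : t.truncLE 0 ⋙ t.truncGE 0 ≅ H0 ⋙ t.ιHeart :=
  t.truncGELEIsoLEGE 0 0 ≪≫ e.symm

include e in
theorem preservesZeroMorphisms_of_iso : H0.PreservesZeroMorphisms where
  map_zero X Y := t.ιHeart.map_injective (by
    rw [t.ιHeart.map_zero, ← cancel_mono (e.hom.app Y), zero_comp]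
    refine (e.hom.naturality (0 : X ⟶ Y)).trans ?_
    rw [Functor.map_zero, comp_zero])

include e in
theorem isIso_map_of_truncGE {X Y : C} (φ : X ⟶ Y) [IsIso ((t.truncGE 0).map φ)] :
    IsIso (H0.map φ) := by
  have h : IsIso ((t.truncGE 0 ⋙ t.truncLE 0).map φ) :=
    inferInstanceAs (IsIso ((t.truncLE 0).map ((t.truncGE 0).map φ)))
  rw [← NatIso.isIso_map_iff e φ] at h
  have : IsIso (t.ιHeart.map (H0.map φ)) := h
  exact isIso_of_fully_faithful t.ιHeart _

include e in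
theorem isIso_map_of_truncLE {X Y : C} (φ : X ⟶ Y) [IsIso ((t.truncLE 0).map φ)] :
    IsIso (H0.map φ) := by
  have h : IsIso ((t.truncLE 0 ⋙ t.truncGE 0).map φ) :=
    inferInstanceAs (IsIso ((t.truncGE 0).map ((t.truncLE 0).map φ)))
  rw [NatIso.isIso_map_iff (isoLEGE e) φ] at h
  have : IsIso (t.ιHeart.map (H0.map φ)) := h
  exact isIso_of_fully_faithful t.ιHeart _

/-- For `X ≤ 0`, the canonical morphism `X ⟶ ι (H0 X)`. -/
noncomputable def toHeart (X : C) [t.IsLE X 0] : X ⟶ t.ιHeart.obj (H0.obj X) :=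
  inv ((t.truncLEι 0).app X) ≫ (t.truncGEπ 0).app _ ≫
    (isoLEGE e).hom.app X

theorem toHeart_naturality {X Y : C} [t.IsLE X 0] [t.IsLE Y 0] (f : X ⟶ Y) :
    f ≫ toHeart e Y = toHeart e X ≫ t.ιHeart.map (H0.map f) := by
  have h1 : f ≫ inv ((t.truncLEι 0).app Y) = inv ((t.truncLEι 0).app X) ≫ (t.truncLE 0).map f := by
    rw [IsIso.comp_inv_eq, Category.assoc, IsIso.eq_inv_comp]
    exact ((t.truncLEι 0).naturality f).symm
  have h2 := (isoLEGE e).hom.naturality f
  have h3 := (t.truncGEπ 0).naturality ((t.truncLE 0).map f)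
  simp only [toHeart, Category.assoc]
  rw [reassoc_of% h1]
  congr 1
  erw [reassoc_of% h3]
  exact congrArg _ h2

theorem toHeart_ext (X : C) [t.IsLE X 0] {A : C} [t.IsGE A 0]
    {a b : t.ιHeart.obj (H0.obj X) ⟶ A} (h : toHeart e X ≫ a = toHeart e X ≫ b) : a = b := by
  simp only [toHeart, Category.assoc] at h
  exact (cancel_epi ((isoLEGE e).hom.app X)).1
    (t.from_truncGE_obj_ext ((cancel_epi (inv ((t.truncLEι 0).app X))).1 h))

theorem toHeart_fac (X : C) [t.IsLE X 0] {A : C} [t.IsGE A 0] (a : X ⟶ A) :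
    ∃ b, toHeart e X ≫ b = a := by
  refine ⟨(isoLEGE e).inv.app X ≫
    t.descTruncGE ((t.truncLEι 0).app X ≫ a) 0, ?_⟩
  simp only [toHeart, Category.assoc]
  erw [Iso.hom_inv_id_app_assoc, t.π_descTruncGE]
  exact IsIso.inv_hom_id_assoc _ _

/-- For `X ≥ 0`, the canonical morphism `ι (H0 X) ⟶ X`. -/
noncomputable def fromHeart (X : C) [t.IsGE X 0] : t.ιHeart.obj (H0.obj X) ⟶ X :=
  e.hom.app X ≫ (t.truncLEι 0).app _ ≫ inv ((t.truncGEπ 0).app X)

theorem fromHeart_naturality {X Y : C} [t.IsGE X 0] [t.IsGE Y 0] (f : X ⟶ Y) :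
    fromHeart e X ≫ f = t.ιHeart.map (H0.map f) ≫ fromHeart e Y := by
  have h1 : inv ((t.truncGEπ 0).app X) ≫ f = (t.truncGE 0).map f ≫ inv ((t.truncGEπ 0).app Y) := by
    rw [IsIso.inv_comp_eq, ← Category.assoc, IsIso.eq_comp_inv]
    exact (t.truncGEπ 0).naturality f
  have h2 := e.hom.naturality f
  have h3 := (t.truncLEι 0).naturality ((t.truncGE 0).map f)
  simp only [fromHeart, Category.assoc]
  rw [h1]
  erw [← reassoc_of% h3, ← reassoc_of% h2]

theorem fromHeart_ext (X : C) [t.IsGE X 0] {A : C} [t.IsLE A 0]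
    {a b : A ⟶ t.ιHeart.obj (H0.obj X)} (h : a ≫ fromHeart e X = b ≫ fromHeart e X) : a = b := by
  simp only [fromHeart, ← Category.assoc] at h
  exact (cancel_mono (e.hom.app X)).1
    (t.to_truncLE_obj_ext ((cancel_mono (inv ((t.truncGEπ 0).app X))).1 h))

variable [H0.PreservesZeroMorphisms]

include e

theorem exact_of_isLE (T : Triangle C) (hT : T ∈ distTriang C) (h₁ : t.IsLE T.obj₁ 0)
    (h₂ : t.IsLE T.obj₂ 0) :
    ((shortComplexOfDistTriangle T hT).map H0).Exact := by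
  have h₃ : t.IsLE T.obj₃ 0 := t.isLE₂ _ (rot_of_distTriang _ hT) 0 h₂
    (show t.IsLE ((T.obj₁)⟦(1 : ℤ)⟧) 0 by
      have := t.isLE_shift T.obj₁ 0 1 (-1)
      exact t.isLE_of_le _ (-1) 0)
  have hlift : ∀ {A : H} (k : H0.obj T.obj₂ ⟶ A), H0.map T.mor₁ ≫ k = 0 →
      ∃ c : H0.obj T.obj₃ ⟶ A, H0.map T.mor₂ ≫ c = k := fun {A} k hk => by
    have h0 : T.mor₁ ≫ toHeart e T.obj₂ ≫ t.ιHeart.map k = 0 := by
      rw [reassoc_of% (toHeart_naturality e T.mor₁), ← Functor.map_comp, hk, Functor.map_zero,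
        comp_zero]
    obtain ⟨c, hc⟩ := Triangle.yoneda_exact₂ _ hT _ h0
    obtain ⟨b, hb⟩ := toHeart_fac e T.obj₃ c
    refine ⟨t.ιHeart.preimage b, t.ιHeart.map_injective (toHeart_ext e T.obj₂ ?_)⟩
    rw [Functor.map_comp, Functor.map_preimage, ← reassoc_of% (toHeart_naturality e T.mor₂), hb, ← hc]
  have : Epi (H0.map T.mor₂) := by
    rw [Preadditive.epi_iff_cancel_zero]
    intro A k hk
    apply t.ιHeart.map_injective
    rw [Functor.map_zero]
    refine toHeart_ext e T.obj₃ ?_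
    rw [comp_zero]
    have h0 : T.mor₂ ≫ toHeart e T.obj₃ ≫ t.ιHeart.map k = 0 := by
      rw [reassoc_of% (toHeart_naturality e T.mor₂), ← Functor.map_comp, hk, Functor.map_zero,
        comp_zero]
    obtain ⟨d, hd⟩ := Triangle.yoneda_exact₃ _ hT _ h0
    have := t.isLE_shift T.obj₁ 0 1 (-1)
    rw [hd, t.zero d (-1) 0, comp_zero]
  exact ShortComplex.exact_of_g_is_cokernel _ (CokernelCofork.IsColimit.ofπ _ _
    (fun k hk => (hlift k hk).choose) (fun k hk => (hlift k hk).choose_spec)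
    (fun k hk m hm => (cancel_epi (H0.map T.mor₂)).1 (hm.trans (hlift k hk).choose_spec.symm)))

theorem exact_of_isLE₁ (T : Triangle C) (hT : T ∈ distTriang C) (h₁ : t.IsLE T.obj₁ 0) :
    ((shortComplexOfDistTriangle T hT).map H0).Exact := by
  obtain ⟨Z', g', δ', hT'⟩ := distinguished_cocone_triangle (t.liftTruncLE T.mor₁ 0)
  have hex := exact_of_isLE e _ hT' h₁ (show t.IsLE ((t.truncLE 0).obj T.obj₂) 0 from inferInstance)
  let O := someOctahedron (t.liftTruncLE_ι T.mor₁ 0) hT' (t.triangleLEGT_distinguished 0 T.obj₂) hT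
  have : IsIso ((t.truncLE 0).map O.m₁) :=
    t.isIso₁_truncLE_map_of_isGE _ O.mem 0 1 rfl
      (show t.IsGE ((t.truncGT 0).obj T.obj₂) 1 from t.isGE_truncGT_obj _ 0 1)
  have hI₁ := isIso_map_of_truncLE e O.m₁
  have hI₂ := isIso_map_of_truncLE e ((t.truncLEι 0).app T.obj₂)
  refine ShortComplex.exact_of_iso ?_ hex
  refine ShortComplex.isoMk (Iso.refl _) (@asIso _ _ _ _ _ hI₂) (@asIso _ _ _ _ _ hI₁) ?_ ?_
  · refine (Category.id_comp _).trans ?_
    exact (congrArg H0.map (t.liftTruncLE_ι T.mor₁ 0)).symm.trans (H0.map_comp _ _)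
  · exact ((H0.map_comp _ _).symm.trans (congrArg H0.map O.comm₁.symm)).trans (H0.map_comp _ _)

theorem mono_of_isGE₁ (T : Triangle C) (hT : T ∈ distTriang C) (h₁ : t.IsGE T.obj₁ 1) :
    Mono (H0.map T.mor₂) := by
  obtain ⟨Z'', v, w, h13⟩ := distinguished_cocone_triangle ((t.truncLTι 0).app T.obj₂ ≫ T.mor₂)
  let O := someOctahedron (u₁₂ := (t.truncLTι 0).app T.obj₂) (u₂₃ := T.mor₂) rfl
    (t.triangleLTGE_distinguished 0 T.obj₂) (rot_of_distTriang _ hT) h13
  have hA : t.IsGE ((T.obj₁)⟦(1 : ℤ)⟧) 0 := t.isGE_shift _ 1 1 0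
  have hZ : t.IsGE Z'' 0 := t.isGE₂ _ O.mem 0
    (show t.IsGE ((t.truncGE 0).obj T.obj₂) 0 from inferInstance) hA
  have : IsIso ((t.truncGE 0).map v) :=
    t.isIso₂_truncGE_map_of_isLE _ h13 (-1) 0 rfl
      (show t.IsLE ((t.truncLT 0).obj T.obj₂) (-1) from t.isLE_truncLT_obj _ 0 (-1))
  have := isIso_map_of_truncGE e v
  have := isIso_map_of_truncGE e ((t.truncGEπ 0).app T.obj₂)
  have hm : Mono (H0.map O.m₁) := by
    rw [Preadditive.mono_iff_cancel_zero]
    intro B k hk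
    apply t.ιHeart.map_injective
    rw [Functor.map_zero]
    refine fromHeart_ext e ((t.truncGE 0).obj T.obj₂) ?_
    rw [zero_comp]
    have h0 : (t.ιHeart.map k ≫ fromHeart e _) ≫ O.m₁ = 0 := by
      rw [Category.assoc, fromHeart_naturality, ← Functor.map_comp_assoc, hk, Functor.map_zero,
        zero_comp]
    obtain ⟨d, hd⟩ := Triangle.coyoneda_exact₂ _ (inv_rot_of_distTriang _ O.mem)
      (t.ιHeart.map k ≫ fromHeart e _) h0
    have hA' : t.IsGE (((T.obj₁)⟦(1 : ℤ)⟧)⟦(-1 : ℤ)⟧) 1 := t.isGE_shift _ 0 (-1) 1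
    refine hd.trans ?_
    rw [t.zero_of_isLE_of_isGE d 0 1 zero_lt_one inferInstance hA', zero_comp]
    rfl
  have hc : H0.map T.mor₂ ≫ H0.map v =
      H0.map ((t.truncGEπ 0).app T.obj₂) ≫ H0.map O.m₁ :=
    (H0.map_comp _ _).symm.trans ((congrArg H0.map O.comm₁.symm).trans (H0.map_comp _ _))
  have : Mono (H0.map T.mor₂ ≫ H0.map v) := by rw [hc]; infer_instance
  exact mono_of_mono (H0.map T.mor₂) (H0.map v)

theorem isHomological_aux : H0.IsHomological where
  exact T hT := by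
    obtain ⟨W, g, δ, h13⟩ := distinguished_cocone_triangle ((t.truncLEι 0).app T.obj₁ ≫ T.mor₁)
    have hex := exact_of_isLE₁ e _ h13 (show t.IsLE ((t.truncLE 0).obj T.obj₁) 0 from inferInstance)
    let O := someOctahedron (u₁₂ := (t.truncLEι 0).app T.obj₁) (u₂₃ := T.mor₁) rfl
      (t.triangleLEGT_distinguished 0 T.obj₁) hT h13
    have : Mono (H0.map O.m₃) := mono_of_isGE₁ e _ O.mem
      (show t.IsGE ((t.truncGT 0).obj T.obj₁) 1 from t.isGE_truncGT_obj _ 0 1)
    have := isIso_map_of_truncLE e ((t.truncLEι 0).app T.obj₁)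
    let φ : (shortComplexOfDistTriangle _ h13).map H0 ⟶ (shortComplexOfDistTriangle T hT).map H0 :=
      { τ₁ := H0.map ((t.truncLEι 0).app T.obj₁)
        τ₂ := 𝟙 _
        τ₃ := H0.map O.m₃
        comm₁₂ := (H0.map_comp _ _).symm.trans (Category.comp_id _).symm
        comm₂₃ := (Category.id_comp _).trans
          ((congrArg H0.map O.comm₃.symm).trans (H0.map_comp _ _)) }
    have : Epi φ.τ₁ := (inferInstance : Epi (H0.map ((t.truncLEι 0).app T.obj₁)))
    have : IsIso φ.τ₂ := (inferInstance : IsIso (𝟙 (H0.obj T.obj₂)))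
    have : Mono φ.τ₃ := ‹Mono (H0.map O.m₃)›
    exact (ShortComplex.exact_iff_of_epi_of_isIso_of_mono φ).1 hex

end

theorem isHomological (e : H0 ⋙ t.ιHeart ≅ t.truncGE 0 ⋙ t.truncLE 0) : H0.IsHomological :=
  have := preservesZeroMorphisms_of_iso e
  isHomological_aux e

end Groth.Agent.THeart
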